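import Mathlib

/-!
Spreading out of congruences of hermitian forms from a localisation at a prime.
-/

set_option autoImplicit false
set_option linter.style.haveILetI false

universe u v w

open TensorProduct

namespace GrothLib.HermSpread21

/-- the algebra obtained by adjoining square roots -/
abbrev Q (S : Type u) [CommRing S] {l : ℕ} (t : Fin l → S) : Type u :=
  MvPolynomial (Fin l) S ⧸ Ideal.span (Set.range fun k : Fin l =>
    MvPolynomial.X k ^ 2 - MvPolynomial.C (t k))

section Loc

variable {B : Type u} [CommRing B] (M : Submonoid B)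
  {D E : Type u} [CommRing D] [CommRing E] [Algebra B D] [Algebra B E]

/-- `φ` is, up to the elements of `M`, bijective. -/
structure Loc (φ : D →ₐ[B] E) : Prop where
  surj : ∀ y, ∃ m ∈ M, ∃ x, φ x = m • y
  eq_zero : ∀ x, φ x = 0 → ∃ m ∈ M, m • x = 0

variable {M} {φ : D →ₐ[B] E}

theorem Loc.mem_map (h : Loc M φ) (J : Ideal D) {z : E} (hz : z ∈ J.map φ.toRingHom) :
    ∃ m ∈ M, ∃ j ∈ J, φ j = m • z := by
  induction hz using Submodule.span_induction with
  | mem z hz => obtain ⟨j, hj, rfl⟩ := hz; exact ⟨1, M.one_mem, j, hj, by simp⟩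
  | zero => exact ⟨1, M.one_mem, 0, J.zero_mem, by simp⟩
  | add a b _ _ ha hb =>
    obtain ⟨m, hm, j, hj, e⟩ := ha
    obtain ⟨m', hm', j', hj', e'⟩ := hb
    exact ⟨m * m', M.mul_mem hm hm', m' • j + m • j',
      J.add_mem (J.smul_of_tower_mem _ hj) (J.smul_of_tower_mem _ hj'), by
      rw [map_add, map_smul, map_smul, e, e', smul_smul, smul_smul, mul_comm m' m, smul_add]⟩
  | smul c a _ ha =>
    obtain ⟨m, hm, j, hj, e⟩ := ha
    obtain ⟨m', hm', x, ex⟩ := h.surj c
    exact ⟨m' * m, M.mul_mem hm' hm, x * j, J.mul_mem_left _ hj, by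
      rw [map_mul, ex, e, smul_mul_smul_comm, smul_eq_mul]⟩

theorem Loc.exists_smul_mem (h : Loc M φ) (J : Ideal D) {x : D} (hx : φ x ∈ J.map φ.toRingHom) :
    ∃ m ∈ M, m • x ∈ J := by
  obtain ⟨m, hm, j, hj, e⟩ := h.mem_map J hx
  obtain ⟨m', hm', e'⟩ := h.eq_zero (m • x - j) (by rw [map_sub, map_smul, e, sub_self])
  refine ⟨m' * m, M.mul_mem hm' hm, ?_⟩
  rw [smul_sub, sub_eq_zero, smul_smul] at e'
  rw [e']
  exact J.smul_of_tower_mem _ hj

theorem Loc.quotient (h : Loc M φ) (J : Ideal D) (J' : Ideal E) (hJ : J' = J.map φ.toRingHom)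
    (hle : J ≤ J'.comap φ) : Loc M (Ideal.quotientMapₐ J' φ hle) where
  surj y := by
    obtain ⟨y, rfl⟩ := Ideal.Quotient.mk_surjective y
    obtain ⟨m, hm, x, e⟩ := h.surj y
    refine ⟨m, hm, Ideal.Quotient.mk J x, ?_⟩
    show Ideal.Quotient.mk J' (φ x) = _
    rw [e]
    rfl
  eq_zero x hx := by
    obtain ⟨x, rfl⟩ := Ideal.Quotient.mk_surjective x
    have h1 : φ x ∈ J.map φ.toRingHom := hJ ▸ Ideal.Quotient.eq_zero_iff_mem.mp hx
    obtain ⟨m, hm, e⟩ := h.exists_smul_mem J h1
    exact ⟨m, hm, Ideal.Quotient.eq_zero_iff_mem.mpr e⟩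

theorem Loc.away (h : Loc M φ) (f : D) (D' E' : Type u) [CommRing D'] [CommRing E'] [Algebra B D']
    [Algebra B E'] [Algebra D D'] [Algebra E E'] [IsScalarTower B D D'] [IsScalarTower B E E']
    [IsLocalization.Away f D'] [IsLocalization.Away (φ f) E'] (φ' : D' →ₐ[B] E')
    (hφ : ∀ x, φ' (algebraMap D D' x) = algebraMap E E' (φ x)) : Loc M φ' where
  surj y := by
    obtain ⟨e0, ⟨_, k, rfl⟩, rfl⟩ := IsLocalization.exists_mk'_eq (Submonoid.powers (φ f)) y
    obtain ⟨m, hm, x, e⟩ := h.surj e0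
    refine ⟨m, hm, IsLocalization.mk' D' x (⟨f ^ k, k, rfl⟩ : Submonoid.powers f), ?_⟩
    have h1 : IsUnit (algebraMap E E' (φ f ^ k)) :=
      IsLocalization.map_units E' (⟨φ f ^ k, k, rfl⟩ : Submonoid.powers (φ f))
    refine h1.mul_left_injective ?_
    show φ' _ * algebraMap E E' (φ f ^ k) = m • _ * algebraMap E E' (φ f ^ k)
    rw [smul_mul_assoc, IsLocalization.mk'_spec E' e0 (⟨φ f ^ k, k, rfl⟩ : Submonoid.powers (φ f)),
      ← map_pow φ, ← hφ, ← map_mul,
      IsLocalization.mk'_spec D' x (⟨f ^ k, k, rfl⟩ : Submonoid.powers f), hφ, e]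
    exact map_smul (IsScalarTower.toAlgHom B E E') m e0
  eq_zero y hy := by
    obtain ⟨x, ⟨_, k, rfl⟩, rfl⟩ := IsLocalization.exists_mk'_eq (Submonoid.powers f) y
    have h1 : algebraMap E E' (φ x) = 0 := by
      rw [← hφ, ← IsLocalization.mk'_spec D' x (⟨f ^ k, k, rfl⟩ : Submonoid.powers f), map_mul, hy,
        zero_mul]
    obtain ⟨⟨_, j, rfl⟩, hj⟩ := (IsLocalization.map_eq_zero_iff (Submonoid.powers (φ f)) E' _).mp h1
    obtain ⟨m, hm, e⟩ := h.eq_zero (f ^ j * x) (by rw [map_mul, map_pow]; exact hj)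
    refine ⟨m, hm, ?_⟩
    have h2 : IsUnit (algebraMap D D' (f ^ j * f ^ k)) :=
      IsLocalization.map_units D' (⟨f ^ j * f ^ k, j + k, pow_add f j k⟩ : Submonoid.powers f)
    refine h2.mul_left_injective ?_
    show _ * algebraMap D D' (f ^ j * f ^ k) = 0 * algebraMap D D' (f ^ j * f ^ k)
    rw [zero_mul, smul_mul_assoc, map_mul, mul_comm (algebraMap D D' (f ^ j)), ← mul_assoc,
      IsLocalization.mk'_spec D' x (⟨f ^ k, k, rfl⟩ : Submonoid.powers f), ← map_mul, mul_comm x]
    have := congrArg (algebraMap D D') e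
    rw [map_zero] at this
    rw [← this]
    exact (map_smul (IsScalarTower.toAlgHom B D D') m _).symm

theorem Loc.mapPoly (h : Loc M φ) (σ : Type) : Loc M (MvPolynomial.mapAlgHom φ (σ := σ)) where
  surj y := by
    induction y using MvPolynomial.induction_on' with
    | monomial d a =>
      obtain ⟨m, hm, x, e⟩ := h.surj a
      refine ⟨m, hm, MvPolynomial.monomial d x, ?_⟩
      rw [MvPolynomial.mapAlgHom_apply]
      erw [MvPolynomial.map_monomial]
      rw [MvPolynomial.smul_monomial]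
      exact congrArg (MvPolynomial.monomial d) e
    | add a b ha hb =>
      obtain ⟨m, hm, x, e⟩ := ha
      obtain ⟨m', hm', x', e'⟩ := hb
      refine ⟨m * m', M.mul_mem hm hm', m' • x + m • x', ?_⟩
      rw [map_add, map_smul, map_smul, e, e', smul_smul, smul_smul, mul_comm m' m, smul_add]
  eq_zero x hx := by
    classical
    have hc : ∀ d, φ (x.coeff d) = 0 := fun d => by
      have := congrArg (MvPolynomial.coeff d) hx
      rw [MvPolynomial.mapAlgHom_apply] at this
      erw [MvPolynomial.coeff_map] at this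
      simpa using this
    choose m hm em using fun d => h.eq_zero _ (hc d)
    refine ⟨∏ d ∈ x.support, m d, Submonoid.prod_mem M fun d _ => hm d, ?_⟩
    ext d
    rw [MvPolynomial.coeff_smul, MvPolynomial.coeff_zero]
    by_cases hd : d ∈ x.support
    · rw [← Finset.prod_erase_mul _ _ hd, mul_smul, em, smul_zero]
    · rw [MvPolynomial.notMem_support_iff.mp hd, smul_zero]

theorem Loc.isLocalizedModule (h : Loc M φ) (hu : ∀ m ∈ M, IsUnit (algebraMap B E m)) :
    IsLocalizedModule M φ.toLinearMap where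
  map_units m := by
    rw [Module.End.isUnit_iff]
    obtain ⟨c, hc⟩ := (hu m m.2).exists_right_inv
    refine ⟨fun a b hab => ?_, fun y => ⟨c * y, ?_⟩⟩
    · simp only [Module.algebraMap_end_apply, Algebra.smul_def] at hab
      exact (hu m m.2).mul_left_cancel hab
    · simp [Module.algebraMap_end_apply, Algebra.smul_def, ← mul_assoc, hc]
  surj y := by
    obtain ⟨m, hm, x, e⟩ := h.surj y
    exact ⟨(x, ⟨m, hm⟩), e.symm⟩
  exists_of_eq {a b} hab := by
    obtain ⟨m, hm, e⟩ := h.eq_zero (a - b) (by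
      rw [map_sub]; exact sub_eq_zero.mpr hab)
    exact ⟨⟨m, hm⟩, by rwa [smul_sub, sub_eq_zero] at e⟩

end Loc

section Mat

variable {B : Type u} [CommRing B] {M : Submonoid B} {X : Type w} {Y : Type w} [AddCommGroup X]
  [AddCommGroup Y] [Module B X] [Module B Y] (g : X →ₗ[B] Y) [IsLocalizedModule M g] {n : ℕ}

theorem exists_matrix (v : Matrix (Fin n) (Fin n) Y) :
    ∃ m ∈ M, ∃ V : Matrix (Fin n) (Fin n) X, V.map g = m • v := by
  classical
  choose x hx using fun q : Fin n × Fin n => IsLocalizedModule.surj M g (v q.1 q.2)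
  refine ⟨∏ q, ((x q).2 : B), Submonoid.prod_mem M fun q _ => (x q).2.2,
    Matrix.of fun i j => (∏ q ∈ Finset.univ.erase (i, j), ((x q).2 : B)) • (x (i, j)).1, ?_⟩
  ext i j
  rw [Matrix.map_apply, Matrix.of_apply, map_smul, ← hx (i, j), Submonoid.smul_def, smul_smul,
    Matrix.smul_apply, Finset.prod_erase_mul _ _ (Finset.mem_univ _)]

theorem exists_kill (V W : Matrix (Fin n) (Fin n) X) (h : V.map g = W.map g) :
    ∃ m ∈ M, m • V = m • W := by
  classical
  choose c hc using fun q : Fin n × Fin n => IsLocalizedModule.exists_of_eq (S := M) (f := g)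
    (congrFun (congrFun h q.1) q.2)
  refine ⟨∏ q, (c q : B), Submonoid.prod_mem M fun q _ => (c q).2, ?_⟩
  ext i j
  rw [Matrix.smul_apply, Matrix.smul_apply, ← Finset.prod_erase_mul _ _ (Finset.mem_univ (i, j)),
    mul_smul, mul_smul]
  exact congrArg _ (hc (i, j))

end Mat

section Main

variable {B : Type u} {A : Type v} [CommRing B] [CommRing A] [Algebra B A] (lam : A ≃ₐ[B] A) {n : ℕ}

/-- twisting the second factor -/
noncomputable abbrev tw (C : Type u) [CommRing C] [Algebra B C] : C ⊗[B] A ≃ₐ[B] C ⊗[B] A :=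
  Algebra.TensorProduct.congr (AlgEquiv.refl : C ≃ₐ[B] C) lam

variable {D : Type u} [CommRing D] [Algebra B D]

/-- the congruence equation -/
noncomputable def lhs (C : Type u) [CommRing C] [Algebra B C] (h : Matrix (Fin n) (Fin n) A)
    (v : Matrix (Fin n) (Fin n) (C ⊗[B] A)) : Matrix (Fin n) (Fin n) (C ⊗[B] A) :=
  (v.map (tw lam C)).transpose * h.map (Algebra.TensorProduct.includeRight : A →ₐ[B] C ⊗[B] A) * v

theorem lhs_map {C : Type u} [CommRing C] [Algebra B C] (χ : D →ₐ[B] C)
    (h : Matrix (Fin n) (Fin n) A) (V : Matrix (Fin n) (Fin n) (D ⊗[B] A)) :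
    (lhs lam D h V).map (Algebra.TensorProduct.map χ (AlgHom.id B A)) =
      lhs lam C h (V.map (Algebra.TensorProduct.map χ (AlgHom.id B A))) := by
  set G := Algebra.TensorProduct.map χ (AlgHom.id B A)
  have e1 : ∀ z, G (tw lam D z) = tw lam C (G z) := by
    intro z
    induction z using TensorProduct.induction_on with
    | zero => simp
    | tmul a b => simp [G]
    | add a b ha hb => simp only [map_add, ha, hb]
  rw [lhs, lhs, Matrix.map_mul, Matrix.map_mul, Matrix.transpose_map]
  congr 2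
  · ext i j
    simp only [Matrix.map_apply, Matrix.transpose_apply]
    exact e1 _
  · ext i j
    simp [G]

theorem lhs_smul (C : Type u) [CommRing C] [Algebra B C] (c : B) (h : Matrix (Fin n) (Fin n) A)
    (v : Matrix (Fin n) (Fin n) (C ⊗[B] A)) : lhs lam C h (c • v) = (c * c) • lhs lam C h v := by
  have e : ((c • v).map (tw lam C)).transpose = c • (v.map (tw lam C)).transpose := by
    ext i j; simp [Matrix.transpose_apply]
  rw [lhs, lhs, e, Matrix.smul_mul, Matrix.smul_mul, Matrix.mul_smul, smul_smul]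

set_option maxHeartbeats 2000000 in
/-- The spreading-out statement. -/
theorem main (h h' : Matrix (Fin n) (Fin n) A) (p : Ideal B) [p.IsPrime] (l : ℕ)
    (s : Fin l → (Localization.AtPrime p)ˣ) (r : ℕ)
    (f : Fin r → Q (Localization.AtPrime p) (fun k => (s k : Localization.AtPrime p)))
    (hf : Ideal.span (Set.range f) = ⊤)
    (hv : ∀ (i : Fin r) (C : Type u) [CommRing C] [Algebra B C]
      [Algebra (Q (Localization.AtPrime p) (fun k => (s k : Localization.AtPrime p))) C]
      [IsScalarTower B (Q (Localization.AtPrime p) (fun k => (s k : Localization.AtPrime p))) C]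
      [IsLocalization.Away (f i) C],
      ∃ v : Matrix (Fin n) (Fin n) (C ⊗[B] A), IsUnit v ∧
        lhs lam C h v = h'.map (Algebra.TensorProduct.includeRight : A →ₐ[B] C ⊗[B] A)) :
    ∃ b : B, b ∉ p ∧ ∃ (s' : Fin l → (Localization.Away b)ˣ)
      (f' : Fin r → Q (Localization.Away b) (fun k => (s' k : Localization.Away b))),
      Ideal.span (Set.range f') = ⊤ ∧
      ∀ (i : Fin r) (C : Type u) [CommRing C] [Algebra B C]
        [Algebra (Q (Localization.Away b) (fun k => (s' k : Localization.Away b))) C]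
        [IsScalarTower B (Q (Localization.Away b) (fun k => (s' k : Localization.Away b))) C]
        [IsLocalization.Away (f' i) C],
        ∃ v : Matrix (Fin n) (Fin n) (C ⊗[B] A), IsUnit v ∧
          lhs lam C h v = h'.map (Algebra.TensorProduct.includeRight : A →ₐ[B] C ⊗[B] A) := by
  classical
  set P := Localization.AtPrime p
  let M := p.primeCompl
  choose σ d hσ using fun k => IsLocalization.exists_mk'_eq M (s k : P)
  have hσM : ∀ k, σ k ∈ M := fun k => by
    have : IsUnit (IsLocalization.mk' P (σ k) (d k)) := (hσ k) ▸ (s k).isUnit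
    exact (IsLocalization.AtPrime.isUnit_mk'_iff P p (σ k) (d k)).mp this
  let b0 : B := ∏ k, σ k * d k
  have hb0 : b0 ∈ M := Submonoid.prod_mem M fun k _ => M.mul_mem (hσM k) (d k).2
  let B0 := Localization.Away b0
  have hu0 : ∀ k, IsUnit (algebraMap B B0 (σ k) * algebraMap B B0 (d k)) := fun k => by
    rw [← map_mul]
    exact isUnit_of_dvd_unit ((algebraMap B B0).map_dvd (Finset.dvd_prod_of_mem (fun k => σ k * (d k : B))
      (Finset.mem_univ k))) (IsLocalization.Away.algebraMap_isUnit b0)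
  let t : Fin l → B0ˣ := fun k =>
    (IsUnit.mul_iff.mp (hu0 k)).1.unit * (IsUnit.mul_iff.mp (hu0 k)).2.unit⁻¹
  let β : B0 →ₐ[B] P := IsLocalization.liftAlgHom (M := Submonoid.powers b0) (f := Algebra.ofId B P)
    (fun y => IsLocalization.map_units P (⟨y.1, by
      obtain ⟨k, hk⟩ := y.2
      exact hk ▸ M.pow_mem hb0 k⟩ : M))
  have hβt : ∀ k, β (t k) = s k := by
    intro k
    rw [← hσ k, IsLocalization.eq_mk'_iff_mul_eq, ← β.commutes, ← map_mul]
    show β ((algebraMap B B0 (σ k)) * _ * algebraMap B B0 (d k)) = _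
    rw [mul_assoc, IsUnit.val_inv_mul, mul_one, β.commutes]
  have hβ : Loc M β := by
    refine ⟨fun y => ?_, fun x hx => ?_⟩
    · obtain ⟨a, m, rfl⟩ := IsLocalization.exists_mk'_eq M y
      refine ⟨m, m.2, algebraMap B B0 a, ?_⟩
      rw [β.commutes, Algebra.smul_def, mul_comm, IsLocalization.mk'_spec]
    · obtain ⟨a, ⟨_, k, rfl⟩, rfl⟩ := IsLocalization.exists_mk'_eq (Submonoid.powers b0) x
      have h1 : algebraMap B P a = 0 := by
        rw [← β.commutes, ← IsLocalization.mk'_spec B0 a (⟨b0 ^ k, k, rfl⟩ : Submonoid.powers b0),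
          map_mul, hx, zero_mul]
      obtain ⟨m, hm⟩ := (IsLocalization.map_eq_zero_iff M P a).mp h1
      refine ⟨m, m.2, ?_⟩
      refine (IsLocalization.map_units B0 (⟨b0 ^ k, k, rfl⟩ : Submonoid.powers b0)).mul_left_injective ?_
      show _ * algebraMap B B0 (b0 ^ k) = 0 * algebraMap B B0 (b0 ^ k)
      rw [zero_mul, smul_mul_assoc, IsLocalization.mk'_spec B0 a (⟨b0 ^ k, k, rfl⟩ : Submonoid.powers b0),
        Algebra.smul_def, ← map_mul, hm, map_zero]
  let Jp : Ideal (MvPolynomial (Fin l) P) := Ideal.span (Set.range fun k : Fin l =>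
    MvPolynomial.X k ^ 2 - MvPolynomial.C (s k : P))
  let J0 : Ideal (MvPolynomial (Fin l) B0) := Ideal.span (Set.range fun k : Fin l =>
    MvPolynomial.X k ^ 2 - MvPolynomial.C (t k : B0))
  have hJ : Jp = J0.map (MvPolynomial.mapAlgHom β).toRingHom := by
    rw [Ideal.map_span, ← Set.range_comp]
    refine congrArg Ideal.span (congrArg Set.range (funext fun k => ?_))
    simp [hβt]
  let Φ : Q B0 (fun k => (t k : B0)) →ₐ[B] Q P (fun k => (s k : P)) :=
    Ideal.quotientMapₐ Jp (MvPolynomial.mapAlgHom β) (Ideal.map_le_iff_le_comap.mp hJ.ge)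
  have hΦ : Loc M Φ := (hβ.mapPoly (Fin l)).quotient J0 Jp hJ _
  choose m₁ hm₁ f0 hf0 using fun i => hΦ.surj (f i)
  have huP : ∀ m ∈ M, IsUnit (algebraMap B P m) := fun m hm => IsLocalization.map_units P (⟨m, hm⟩ : M)
  have hass : ∀ i, Associated (f i) (Φ (f0 i)) := fun i => by
    rw [hf0, Algebra.smul_def, mul_comm,
      IsScalarTower.algebraMap_apply B P (Q P (fun k => (s k : P)))]
    exact associated_mul_unit_right _ _ ((huP _ (hm₁ i)).map _)
  -- the covering condition
  have hspan : (1 : Q P (fun k => (s k : P))) ∈ (Ideal.span (Set.range f0)).map Φ.toRingHom := by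
    have : Ideal.span (Set.range f) ≤ (Ideal.span (Set.range f0)).map Φ.toRingHom := by
      rw [Ideal.span_le]
      rintro _ ⟨i, rfl⟩
      obtain ⟨u, hu⟩ := (hass i).symm
      rw [← hu]
      exact Ideal.mul_mem_right _ _ (Ideal.mem_map_of_mem Φ.toRingHom (Ideal.subset_span ⟨i, rfl⟩))
    rw [hf] at this
    exact this Submodule.mem_top
  obtain ⟨m₂, hm₂, hm₂'⟩ := hΦ.exists_smul_mem (x := 1) _ (by rw [map_one]; exact hspan)
  -- the matrices
  have key : ∀ i, ∃ m ∈ M, ∃ (V W : Matrix (Fin n) (Fin n) (Localization.Away (f0 i) ⊗[B] A)),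
      ∃ a ∈ M, ∃ c ∈ M,
        m • (V * W) = m • ((a * c) • (1 : Matrix (Fin n) (Fin n) (Localization.Away (f0 i) ⊗[B] A))) ∧
        m • (W * V) = m • ((a * c) • (1 : Matrix (Fin n) (Fin n) (Localization.Away (f0 i) ⊗[B] A))) ∧
        m • lhs lam _ h V = m • ((a * a) • h'.map
          (Algebra.TensorProduct.includeRight : A →ₐ[B] Localization.Away (f0 i) ⊗[B] A)) := by
    intro i
    let Ci := Localization.Away (Φ (f0 i))
    haveI : IsLocalization.Away (f i) Ci :=
      IsLocalization.Away.of_associated (hass i).symm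
    obtain ⟨v, hvu, hveq⟩ := hv i Ci
    let Φi : Localization.Away (f0 i) →ₐ[B] Ci :=
      IsLocalization.liftAlgHom (M := Submonoid.powers (f0 i))
        (f := (IsScalarTower.toAlgHom B (Q P (fun k => (s k : P))) Ci).comp Φ) (fun y => by
        obtain ⟨_, k, rfl⟩ := y
        show IsUnit (algebraMap _ Ci (Φ (f0 i ^ k)))
        rw [map_pow Φ]
        exact IsLocalization.map_units Ci (⟨Φ (f0 i) ^ k, k, rfl⟩ : Submonoid.powers (Φ (f0 i))))
    have hΦi : Loc M Φi := hΦ.away (f0 i) (Localization.Away (f0 i)) Ci Φi (fun x => by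
      show IsLocalization.liftAlgHom _ (algebraMap _ _ x) = _
      exact IsLocalization.lift_eq _ x)
    have huC : ∀ m ∈ M, IsUnit (algebraMap B Ci m) := fun m hm => by
      rw [IsScalarTower.algebraMap_apply B (Q P (fun k => (s k : P))) Ci,
        IsScalarTower.algebraMap_apply B P (Q P (fun k => (s k : P)))]
      exact ((huP m hm).map _).map _
    let G := Algebra.TensorProduct.map Φi (AlgHom.id B A)
    haveI := hΦi.isLocalizedModule huC
    haveI hG : IsLocalizedModule M G.toLinearMap := by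
      have := IsLocalizedModule.rTensor (R := B) (A := B) (N := A) M Φi.toLinearMap
      have hGG : G.toLinearMap = AlgebraTensorModule.rTensor B A Φi.toLinearMap :=
        TensorProduct.ext' fun a b => rfl
      rw [hGG]
      exact this
    obtain ⟨a, ha, V, hV⟩ := exists_matrix (M := M) G.toLinearMap v
    obtain ⟨c, hc, W, hW⟩ := exists_matrix (M := M) G.toLinearMap (↑hvu.unit⁻¹ : Matrix (Fin n) (Fin n) (Ci ⊗[B] A))
    have hV' : V.map G = a • v := hV
    have hW' : W.map G = c • (↑hvu.unit⁻¹ : Matrix (Fin n) (Fin n) (Ci ⊗[B] A)) := hW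
    have h1map : ∀ q : B, ((q • (1 : Matrix (Fin n) (Fin n) (Localization.Away (f0 i) ⊗[B] A))).map G) =
        q • (1 : Matrix (Fin n) (Fin n) (Ci ⊗[B] A)) := fun q => by
      ext i j
      simp [Matrix.one_apply, apply_ite G]
    obtain ⟨k₁, hk₁, e₁⟩ := exists_kill (M := M) G.toLinearMap (V * W) ((a * c) • 1) (by
      show (V * W).map G = Matrix.map _ G
      rw [Matrix.map_mul, hV', hW', h1map, Matrix.smul_mul, Matrix.mul_smul, smul_smul,
        IsUnit.mul_val_inv])
    obtain ⟨k₂, hk₂, e₂⟩ := exists_kill (M := M) G.toLinearMap (W * V) ((a * c) • 1) (by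
      show (W * V).map G = Matrix.map _ G
      rw [Matrix.map_mul, hV', hW', h1map, Matrix.smul_mul, Matrix.mul_smul, smul_smul, mul_comm c a,
        IsUnit.val_inv_mul])
    obtain ⟨k₃, hk₃, e₃⟩ := exists_kill (M := M) G.toLinearMap (lhs lam _ h V) ((a * a) • h'.map
        (Algebra.TensorProduct.includeRight : A →ₐ[B] Localization.Away (f0 i) ⊗[B] A)) (by
      show (lhs lam _ h V).map G = Matrix.map _ G
      rw [lhs_map lam Φi, hV', lhs_smul, hveq]
      ext i j
      simp [G])
    refine ⟨k₁ * k₂ * k₃, M.mul_mem (M.mul_mem hk₁ hk₂) hk₃, V, W, a, ha, c, hc, ?_, ?_, ?_⟩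
    · rw [mul_comm k₁ k₂, mul_assoc, mul_comm k₁ k₃, ← mul_assoc, mul_smul, mul_smul _ k₁, e₁]
    · rw [mul_assoc, mul_comm k₂ k₃, ← mul_assoc, mul_smul, mul_smul _ k₂, e₂]
    · rw [mul_smul, mul_smul _ k₃, e₃]
  choose mk hmk V W a ha c hc e₁ e₂ e₃ using key
  let b : B := b0 * m₂ * ∏ i, (mk i * a i * c i)
  have hb : b ∈ M := M.mul_mem (M.mul_mem hb0 hm₂)
    (Submonoid.prod_mem M fun i _ => M.mul_mem (M.mul_mem (hmk i) (ha i)) (hc i))
  let Bb := Localization.Away b
  have hdvd : ∀ x, x ∣ b → IsUnit (algebraMap B Bb x) := fun x hx =>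
    isUnit_of_dvd_unit ((algebraMap B Bb).map_dvd hx) (IsLocalization.Away.algebraMap_isUnit b)
  let γ : B0 →ₐ[B] Bb := IsLocalization.liftAlgHom (M := Submonoid.powers b0) (f := Algebra.ofId B Bb)
    (fun y => by
      obtain ⟨_, k, rfl⟩ := y
      show IsUnit (algebraMap B Bb (b0 ^ k))
      rw [map_pow]
      exact (hdvd b0 ((dvd_mul_right b0 m₂).mul_right _)).pow k)
  let s' : Fin l → Bbˣ := fun k => Units.map γ.toRingHom.toMonoidHom (t k)
  let Jb : Ideal (MvPolynomial (Fin l) Bb) := Ideal.span (Set.range fun k : Fin l =>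
    MvPolynomial.X k ^ 2 - MvPolynomial.C (s' k : Bb))
  let Ψ : Q B0 (fun k => (t k : B0)) →ₐ[B] Q Bb (fun k => (s' k : Bb)) :=
    Ideal.quotientMapₐ Jb (MvPolynomial.mapAlgHom γ) (by
      rw [← Ideal.map_le_iff_le_comap, Ideal.map_span, ← Set.range_comp]
      refine Ideal.span_le.mpr ?_
      rintro _ ⟨k, rfl⟩
      refine Ideal.subset_span ⟨k, ?_⟩
      simp [s'])
  refine ⟨b, hb, s', fun i => Ψ (f0 i), ?_, fun i C _ _ _ _ _ => ?_⟩
  · rw [Ideal.eq_top_iff_one]
    have h1 := Ideal.mem_map_of_mem Ψ.toRingHom hm₂'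
    rw [Ideal.map_span, ← Set.range_comp] at h1
    have h2 : Ψ.toRingHom (m₂ • (1 : Q B0 (fun k => (t k : B0)))) =
        algebraMap B (Q Bb (fun k => (s' k : Bb))) m₂ := by
      show Ψ (m₂ • 1) = _
      rw [map_smul, map_one]
      exact (Algebra.algebraMap_eq_smul_one m₂).symm
    rw [h2, IsScalarTower.algebraMap_apply B Bb (Q Bb (fun k => (s' k : Bb)))] at h1
    have hu2 : IsUnit (algebraMap Bb (Q Bb (fun k => (s' k : Bb))) (algebraMap B Bb m₂)) :=
      (hdvd m₂ ((dvd_mul_left m₂ b0).mul_right _)).map _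
    exact (Ideal.unit_mul_mem_iff_mem _ hu2).mp (by rw [mul_one]; exact h1)
  · let χ : Localization.Away (f0 i) →ₐ[B] C :=
      IsLocalization.liftAlgHom (M := Submonoid.powers (f0 i))
        (f := (IsScalarTower.toAlgHom B (Q Bb (fun k => (s' k : Bb))) C).comp Ψ) (fun y => by
        obtain ⟨_, k, rfl⟩ := y
        show IsUnit (algebraMap _ C (Ψ (f0 i ^ k)))
        rw [map_pow Ψ]
        exact IsLocalization.map_units C (⟨Ψ (f0 i) ^ k, k, rfl⟩ : Submonoid.powers (Ψ (f0 i))))
    have huC : ∀ x, x ∣ b → IsUnit (algebraMap B C x) := fun x hx => by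
      rw [IsScalarTower.algebraMap_apply B (Q Bb (fun k => (s' k : Bb))) C,
        IsScalarTower.algebraMap_apply B Bb (Q Bb (fun k => (s' k : Bb)))]
      exact ((hdvd x hx).map _).map _
    have hdi : mk i * a i * c i ∣ b :=
      (Finset.dvd_prod_of_mem (fun i => mk i * a i * c i) (Finset.mem_univ i)).mul_left _
    obtain ⟨im, him⟩ := (huC (mk i) ((dvd_mul_right _ _).trans ((dvd_mul_right _ _).trans hdi))).exists_left_inv
    obtain ⟨ia, hia⟩ := (huC (a i) ((dvd_mul_left _ _).trans ((dvd_mul_right _ _).trans hdi))).exists_left_inv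
    obtain ⟨ic, hic⟩ := (huC (c i) ((dvd_mul_left _ _).trans hdi)).exists_left_inv
    let H := Algebra.TensorProduct.map χ (AlgHom.id B A)
    have cancel : ∀ (U U' : Matrix (Fin n) (Fin n) (Localization.Away (f0 i) ⊗[B] A)),
        mk i • U = mk i • U' → U.map H = U'.map H := by
      intro U U' e
      have e' := congrArg (fun Z => im • Matrix.map Z H) e
      ext p q
      have e'' := congrFun (congrFun e' p) q
      simp only [Matrix.smul_apply, Matrix.map_apply, map_smul] at e''
      rwa [← algebraMap_smul C (mk i) (H (U p q)), ← algebraMap_smul C (mk i) (H (U' p q)), smul_smul,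
        smul_smul, him, one_smul, one_smul] at e''
    let w₁ : Matrix (Fin n) (Fin n) (C ⊗[B] A) := ia • (V i).map H
    let w₂ : Matrix (Fin n) (Fin n) (C ⊗[B] A) := ic • (W i).map H
    have h1H : ∀ q : B, ((q • (1 : Matrix (Fin n) (Fin n) (Localization.Away (f0 i) ⊗[B] A))).map H) =
        algebraMap B C q • (1 : Matrix (Fin n) (Fin n) (C ⊗[B] A)) := fun q => by
      ext p r
      simp [Matrix.one_apply, apply_ite H]
    have hw : w₁ * w₂ = 1 := by
      show (ia • _) * (ic • _) = _
      rw [Matrix.smul_mul, Matrix.mul_smul, smul_smul, ← Matrix.map_mul, cancel _ _ (e₁ i), h1H,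
        smul_smul, map_mul, show ia * ic * (algebraMap B C (a i) * algebraMap B C (c i)) =
          (ia * algebraMap B C (a i)) * (ic * algebraMap B C (c i)) by ring, hia, hic, one_mul, one_smul]
    have hw' : w₂ * w₁ = 1 := by
      show (ic • _) * (ia • _) = _
      rw [Matrix.smul_mul, Matrix.mul_smul, smul_smul, ← Matrix.map_mul, cancel _ _ (e₂ i), h1H,
        smul_smul, map_mul, show ic * ia * (algebraMap B C (a i) * algebraMap B C (c i)) =
          (ia * algebraMap B C (a i)) * (ic * algebraMap B C (c i)) by ring, hia, hic, one_mul, one_smul]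
    refine ⟨w₁, ⟨⟨w₁, w₂, hw, hw'⟩, rfl⟩, ?_⟩
    have htw : ∀ (x : C) (z : C ⊗[B] A), tw lam C (x • z) = x • tw lam C z := by
      intro x z
      induction z using TensorProduct.induction_on with
      | zero => simp
      | tmul y z => simp [TensorProduct.smul_tmul']
      | add z z' hz hz' => simp only [smul_add, map_add, hz, hz']
    have e : (w₁.map (tw lam C)).transpose = ia • (((V i).map H).map (tw lam C)).transpose := by
      ext p q
      simp [w₁, htw]
    show lhs lam C h w₁ = _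
    rw [lhs, e]
    simp only [w₁]
    rw [Matrix.smul_mul, Matrix.smul_mul, Matrix.mul_smul, smul_smul]
    show (ia * ia) • lhs lam C h ((V i).map H) = _
    rw [← lhs_map lam χ, cancel _ _ (e₃ i)]
    ext p q
    simp only [Matrix.smul_apply, Matrix.map_apply, map_smul, H, Algebra.TensorProduct.includeRight_apply,
      Algebra.TensorProduct.map_tmul, map_one, AlgHom.coe_id, id_eq]
    rw [← algebraMap_smul C (a i * a i), smul_smul, map_mul,
      show ia * ia * (algebraMap B C (a i) * algebraMap B C (a i)) =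
        (ia * algebraMap B C (a i)) * (ia * algebraMap B C (a i)) by ring, hia, one_mul, one_smul]

end Main

end GrothLib.HermSpread21
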